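import Mathlib.FieldTheory.Separable
import Mathlib.RingTheory.Ideal.Maps

/-!
# The diagonal of a separable algebraic extension

If `i, j : k' → C` are two ring homomorphisms agreeing on `k`, with `k'/k` separable algebraic,
and `π : C → D` equalizes them, then every element of the ideal generated by the `i s - j s` is
killed by an element whose image in `D` is a unit.
-/

set_option autoImplicit false

open Polynomial

namespace K77.SepDiag

variable {k k' : Type*} [Field k] [Field k'] [Algebra k k'] [Algebra.IsSeparable k k']
  {C D : Type*} [CommRing C] [CommRing D] (i j : k' →+* C) (π : C →+* D)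

include π in
theorem exists_kill (hij : ∀ a : k, i (algebraMap k k' a) = j (algebraMap k k' a))
    (hπ : ∀ s, π (i s) = π (j s)) (s : k') :
    ∃ t : C, IsUnit (π t) ∧ t * (i s - j s) = 0 := by
  let f : k'[X] := (minpoly k s).map (algebraMap k k')
  have hroot : f.IsRoot s := by
    simp [f, IsRoot.def, eval_map_algebraMap]
  obtain ⟨g, hg⟩ := dvd_iff_isRoot.2 hroot
  have hsep : IsSeparable k s := Algebra.IsSeparable.isSeparable k s
  have hd : g.eval s ≠ 0 := by
    have h1 : (derivative f).eval s = g.eval s := by
      rw [hg, derivative_mul]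
      simp
    rw [← h1]
    have h2 := hsep.aeval_derivative_ne_zero (minpoly.aeval k s)
    rw [derivative_map, eval_map_algebraMap]
    exact h2
  refine ⟨g.eval₂ i (j s), ?_, ?_⟩
  · have h1 : π (g.eval₂ i (j s)) = π (i (g.eval s)) := by
      rw [hom_eval₂, ← hπ s, ← RingHom.comp_apply, ← RingHom.comp_apply, ← eval₂_hom]
    rw [h1]
    exact ((IsUnit.mk0 _ hd).map i).map π
  · have h1 : f.eval₂ i (j s) = 0 := by
      have h2 : f.eval₂ i (j s) = f.eval₂ j (j s) := by
        simp only [f, eval₂_map]
        congr 1
        ext a
        exact hij a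
      rw [h2, eval₂_hom, hroot.eq_zero, map_zero]
    rw [hg, eval₂_mul] at h1
    simp only [eval₂_sub, eval₂_X, eval₂_C] at h1
    linear_combination -h1

/-- elements of the ideal generated by the `i s - j s` are killed by elements with invertible
image. -/
theorem exists_kill_of_mem_span (hij : ∀ a : k, i (algebraMap k k' a) = j (algebraMap k k' a))
    (hπ : ∀ s, π (i s) = π (j s)) (x : C)
    (hx : x ∈ Ideal.span (Set.range fun s : k' => i s - j s)) :
    ∃ t : C, IsUnit (π t) ∧ t * x = 0 := by
  induction hx using Submodule.span_induction with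
  | mem x hx =>
    obtain ⟨s, rfl⟩ := hx
    exact exists_kill i j π hij hπ s
  | zero => exact ⟨1, by simp, by simp⟩
  | add x y _ _ hx hy =>
    obtain ⟨t, ht, htx⟩ := hx
    obtain ⟨t', ht', hty⟩ := hy
    refine ⟨t * t', by rw [map_mul]; exact ht.mul ht', ?_⟩
    linear_combination t' * htx + t * hty
  | smul a x _ hx =>
    obtain ⟨t, ht, htx⟩ := hx
    refine ⟨t, ht, ?_⟩
    rw [smul_eq_mul]
    linear_combination a * htx

end K77.SepDiag
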