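import Groth.Agent.Flat2B.WeakAss
import Mathlib.RingTheory.Flat.TorsionFree

/-!
# Associated and weakly associated primes and localization at regular elements

`ass_eq_of_injective`, `ass_localization`, `weakAss_eq_of_injective`: if `T` acts injectively on `N`
then `Ass`/`WeakAss` of `N` and of `T⁻¹N` determine each other.
-/

set_option autoImplicit false
universe u v w

namespace K77.AssLoc

open FlatCA

theorem mem_ass_iff {A : Type u} [CommRing A] {M : Type v} [AddCommGroup M] [Module A M]
    (p : Ideal A) : p ∈ ass A M ↔ p.IsPrime ∧ ∃ m : M, ∀ a, a ∈ p ↔ a • m = 0 := by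
  change (p.IsPrime ∧ ∃ m : M, p = (Submodule.span A {m}).annihilator) ↔ _
  refine and_congr_right fun _ => exists_congr fun m => ?_
  rw [Ideal.ext_iff]
  exact forall_congr' fun a => by rw [Submodule.mem_annihilator_span_singleton]

/-- `Ass` can only grow along injective maps. -/
theorem ass_mono {A : Type u} [CommRing A] {M : Type v} [AddCommGroup M] [Module A M]
    {N : Type w} [AddCommGroup N] [Module A N] (e : M →ₗ[A] N) (he : Function.Injective e) :
    ass A M ⊆ ass A N := by
  intro p hp
  rw [mem_ass_iff] at hp ⊢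
  obtain ⟨h, m, hm⟩ := hp
  refine ⟨h, e m, fun a => ?_⟩
  rw [hm, ← map_smul, map_eq_zero_iff _ he]

theorem ass_congr {A : Type u} [CommRing A] {M : Type v} [AddCommGroup M] [Module A M]
    {N : Type w} [AddCommGroup N] [Module A N] (e : M ≃ₗ[A] N) : ass A M = ass A N :=
  Set.Subset.antisymm (ass_mono e.toLinearMap e.injective) (ass_mono e.symm.toLinearMap e.symm.injective)

variable {C : Type u} [CommRing C] (T : Submonoid C) {N : Type w} [AddCommGroup N] [Module C N]
  {N' : Type*} [AddCommGroup N'] [Module C N'] (f : N →ₗ[C] N') [IsLocalizedModule T f]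

include T in
/-- `Ass_C N = Ass_C (T⁻¹N)` when `T` acts injectively on `N`. -/
theorem ass_eq (hf : Function.Injective f) : ass C N = ass C N' := by
  refine Set.Subset.antisymm (ass_mono f hf) ?_
  intro p hp
  rw [mem_ass_iff] at hp ⊢
  obtain ⟨h, n', hn'⟩ := hp
  obtain ⟨⟨n, s⟩, hn⟩ := IsLocalizedModule.surj T f n'
  replace hn : (s : C) • n' = f n := hn
  refine ⟨h, n, fun a => ?_⟩
  rw [hn', ← map_eq_zero_iff f hf, map_smul, ← hn, smul_comm]
  refine ⟨fun h => by rw [h, smul_zero], fun h => ?_⟩
  refine IsLocalizedModule.smul_injective f s ?_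
  change (s : C) • (a • n') = (s : C) • (0 : N')
  rw [h, smul_zero]

/-- `Ass_C (T⁻¹N)` is the set of contractions of `Ass_{T⁻¹C} (T⁻¹N)`. -/
theorem ass_eq_image (C' : Type v) [CommRing C'] [Algebra C C'] [IsLocalization T C'] [Module C' N']
    [IsScalarTower C C' N'] : ass C N' = Ideal.comap (algebraMap C C') '' ass C' N' := by
  ext p
  constructor
  · intro hp
    rw [mem_ass_iff] at hp
    obtain ⟨h, x, hx⟩ := hp
    have hcomap : (Submodule.span C' {x}).annihilator.comap (algebraMap C C') = p := by
      ext a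
      rw [Ideal.mem_comap, Submodule.mem_annihilator_span_singleton, algebraMap_smul, hx]
    refine ⟨(Submodule.span C' {x}).annihilator, ⟨?_, x, rfl⟩, hcomap⟩
    rw [IsLocalization.isPrime_iff_isPrime_disjoint T C']
    change Ideal.IsPrime ((Submodule.span C' {x}).annihilator.comap (algebraMap C C')) ∧ 
      Disjoint (T : Set C) ((Submodule.span C' {x}).annihilator.comap (algebraMap C C') : Set C)
    rw [hcomap]
    refine ⟨h, ?_⟩
    rw [Set.disjoint_left]
    intro t ht htp
    have h1 : t • x = 0 := (hx t).1 htp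
    have h2 : x = 0 := by
      rw [← algebraMap_smul C' t x] at h1
      exact ((IsLocalization.map_units C' ⟨t, ht⟩).smul_eq_zero).1 h1
    refine h.ne_top ((Ideal.eq_top_iff_one _).2 ?_)
    rw [hx, h2, smul_zero]
  · rintro ⟨q, hq, rfl⟩
    rw [mem_ass_iff] at hq ⊢
    obtain ⟨h, x, hx⟩ := hq
    refine ⟨Ideal.comap_isPrime _ _, x, fun a => ?_⟩
    rw [Ideal.mem_comap, hx, algebraMap_smul]

include f in
/-- `WeakAss_C N` is the set of contractions of `WeakAss_{T⁻¹C} (T⁻¹N)` if `T` acts injectively. -/
theorem weakAss_eq_image (C' : Type v) [CommRing C'] [Algebra C C'] [IsLocalization T C']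
    [Module C' N'] [IsScalarTower C C' N'] (hf : ∀ t ∈ T, ∀ n : N, t • n = 0 → n = 0) :
    weakAss C N = Ideal.comap (algebraMap C C') '' weakAss C' N' := by
  ext p
  constructor
  · intro hp
    have hpp := Groth.Agent.Flat2B.WeakAss.isPrime_of_mem_weakAss hp
    have hd : Disjoint (T : Set C) (p : Set C) := by
      rw [Set.disjoint_left]
      intro t ht htp
      rw [Groth.Agent.Flat2B.WeakAss.mem_weakAss_iff] at hp
      obtain ⟨m, h1, h2⟩ := hp
      obtain ⟨n, a, ha, han⟩ := h2 t htp
      rw [mul_comm, mul_smul] at han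
      exact ha (h1 a (hf _ (pow_mem ht n) _ han))
    have hcomap : (p.map (algebraMap C C')).comap (algebraMap C C') = p :=
      IsLocalization.under_map_of_isPrime_disjoint T C' hpp hd
    have hprime : (p.map (algebraMap C C')).IsPrime :=
      IsLocalization.isPrime_of_isPrime_disjoint T C' p hpp hd
    refine ⟨p.map (algebraMap C C'), ?_, hcomap⟩
    rw [Groth.Agent.Flat2B.WeakAss.mem_weakAss_localization_iff T f, hcomap]
    exact hp
  · rintro ⟨q, hq, rfl⟩
    have hqp := Groth.Agent.Flat2B.WeakAss.isPrime_of_mem_weakAss hq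
    exact (Groth.Agent.Flat2B.WeakAss.mem_weakAss_localization_iff T f q).1 hq

/-- Nonzero divisors of `R` act injectively on flat modules (over algebras). -/
theorem smul_eq_zero_of_flat {R S : Type*} [CommRing R] [CommRing S] [Algebra R S] (N : Type*)
    [AddCommGroup N] [Module S N] [Module R N] [IsScalarTower R S N] [Module.Flat R N] :
    ∀ t ∈ Algebra.algebraMapSubmonoid S (nonZeroDivisors R), ∀ n : N, t • n = 0 → n = 0 := by
  rintro _ ⟨r, hr, rfl⟩ n hn
  rw [algebraMap_smul] at hn
  exact Module.Flat.isSMulRegular_of_nonZeroDivisors hr (by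
    change r • n = r • 0
    rw [hn, smul_zero])

end K77.AssLoc
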