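import Groth.Agent.Flat2D.GenFibSpec
import Mathlib.RingTheory.Spectrum.Prime.ConstructibleSet
import Mathlib.RingTheory.Jacobson.Ring
import Mathlib.RingTheory.RingHom.FiniteType
import Mathlib.RingTheory.Ideal.Over

/-!
# Images of constructible sets near a point, and closed points in the Jacobson case

* `exists_open_of_comap`: `R → S` of finite type, `q` a prime of `S`, `f ∉ q`: the image of
  `V(q) ∩ D(f)` contains `V(q ∩ R) ∩ D(a)` for some `a ∉ q ∩ R`.
* `exists_piece`: a point of a constructible set has a locally closed neighbourhood in it.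
* `exists_vanish`: if `ξ` is not in the image of a constructible set `E`, some `a ∉ ξ` vanishes on
  the part of the image specializing `ξ`.
* `exists_closed_mem`, `isMaximal_of_closed`, `comap_isMaximal`: closed points in Jacobson rings.
-/

set_option autoImplicit false
universe u

namespace K77.ConstrImg

open PrimeSpectrum

theorem exists_open_of_comap {R S : Type u} [CommRing R] [CommRing S] [Algebra R S]
    [Algebra.FiniteType R S] (q : PrimeSpectrum S) (f : S) (hf : f ∉ q.asIdeal) :
    ∃ a : R, a ∉ (comap (algebraMap R S) q).asIdeal ∧ ∀ x : PrimeSpectrum R,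
      comap (algebraMap R S) q ≤ x → a ∉ x.asIdeal →
      ∃ z : PrimeSpectrum S, q ≤ z ∧ f ∉ z.asIdeal ∧ comap (algebraMap R S) z = x := by
  let Q := q.asIdeal
  let p : Ideal R := Q.comap (algebraMap R S)
  have hp : p.IsPrime := Ideal.comap_isPrime _ _
  have hover : Q.LiesOver p := ⟨rfl⟩
  let A := R ⧸ p
  let S' := S ⧸ Q
  let f' : S' := Ideal.Quotient.mk Q f
  have hf' : f' ≠ 0 := fun h => hf (Ideal.Quotient.eq_zero_iff_mem.1 h)
  let B := Localization.Away f'
  have hle : Submonoid.powers f' ≤ nonZeroDivisors S' :=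
    powers_le_nonZeroDivisors_of_noZeroDivisors hf'
  have hD : IsDomain B := IsLocalization.isDomain_localization hle
  have hinjB : Function.Injective (algebraMap S' B) := IsLocalization.injective B hle
  have hinjA : Function.Injective (algebraMap A S') := by
    rw [injective_iff_map_eq_zero]
    intro a ha
    obtain ⟨a, rfl⟩ := Ideal.Quotient.mk_surjective a
    have h1 : Ideal.Quotient.mk Q (algebraMap R S a) = 0 := ha
    rw [Ideal.Quotient.eq_zero_iff_mem] at h1
    exact Ideal.Quotient.eq_zero_iff_mem.2 h1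
  have hinj : Function.Injective (algebraMap A B) := by
    rw [IsScalarTower.algebraMap_eq A S' B, RingHom.coe_comp]
    exact hinjB.comp hinjA
  have h1 : Algebra.FiniteType R S' :=
    Algebra.FiniteType.of_surjective (Ideal.Quotient.mkₐ R Q) (Ideal.Quotient.mkₐ_surjective R Q)
  have h2 : Algebra.FiniteType A S' := Algebra.FiniteType.of_restrictScalars_finiteType R A S'
  have h3 : Algebra.FiniteType S' B := IsLocalization.finiteType_of_monoid_fg (Submonoid.powers f') B
  have h4 : Algebra.FiniteType A B := Algebra.FiniteType.trans h2 h3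
  obtain ⟨a, ha0, ha⟩ := Groth.Agent.Flat2D.GenFibSpec.exists_forall_mem_range (A := A) (B := B)
    (⊥ : PrimeSpectrum B) (by
      ext y
      change algebraMap A B y ∈ (⊥ : PrimeSpectrum B).asIdeal ↔ y ∈ (⊥ : PrimeSpectrum A).asIdeal
      rw [PrimeSpectrum.asIdeal_bot, PrimeSpectrum.asIdeal_bot, Ideal.mem_bot, Ideal.mem_bot]
      exact map_eq_zero_iff _ hinj)
  obtain ⟨a, rfl⟩ := Ideal.Quotient.mk_surjective a
  refine ⟨a, fun h => ha0 (Ideal.Quotient.eq_zero_iff_mem.2 h), fun x hx hax => ?_⟩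
  have hx' : x ∈ Set.range (comap (Ideal.Quotient.mk p)) := by
    rw [range_comap_of_surjective _ _ Ideal.Quotient.mk_surjective, Ideal.mk_ker]
    exact hx
  obtain ⟨x', rfl⟩ := hx'
  obtain ⟨y, hy⟩ := ha x' hax
  let z : PrimeSpectrum S := comap (Ideal.Quotient.mk Q) (comap (algebraMap S' B) y)
  refine ⟨z, ?_, ?_, ?_⟩
  · intro s hs
    change algebraMap S' B (Ideal.Quotient.mk Q s) ∈ y.asIdeal
    rw [Ideal.Quotient.eq_zero_iff_mem.2 hs, map_zero]
    exact zero_mem _
  · intro hfz
    have h5 : algebraMap S' B f' ∈ y.asIdeal := hfz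
    exact y.isPrime.ne_top (Ideal.eq_top_of_isUnit_mem _ h5
      (IsLocalization.map_units B ⟨f', Submonoid.mem_powers f'⟩))
  · rw [← hy]
    rfl

/-- a point of a constructible set has a locally closed neighbourhood `V(g) \ V(f)` in it -/
theorem exists_piece {S : Type*} [CommRing S] {E : Set (PrimeSpectrum S)}
    (hE : Topology.IsConstructible E) (y : PrimeSpectrum S) (hy : y ∈ E) :
    ∃ (J : Ideal S) (f : S), J ≤ y.asIdeal ∧ f ∉ y.asIdeal ∧
      ∀ z : PrimeSpectrum S, J ≤ z.asIdeal → f ∉ z.asIdeal → z ∈ E := by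
  obtain ⟨D, rfl⟩ := exists_constructibleSetData_iff.2 hE
  obtain ⟨C, hC, hyC⟩ := Set.mem_iUnion₂.1 hy
  refine ⟨Ideal.span (Set.range C.g), C.f, ?_, ?_, fun z hz1 hz2 => ?_⟩
  · rw [Ideal.span_le]
    exact hyC.1
  · intro h
    exact hyC.2 (by rw [mem_zeroLocus]; exact Set.singleton_subset_iff.2 h)
  · refine Set.mem_iUnion₂.2 ⟨C, hC, ?_, ?_⟩
    · rw [mem_zeroLocus, ← Ideal.span_le (I := z.asIdeal)]
      exact hz1
    · intro h
      exact hz2 (Set.singleton_subset_iff.1 h)

/-- If `ξ` is not in the image of the constructible set `E`, there is `a ∉ ξ` vanishing at all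
points of the image of `E` specializing `ξ`. -/
theorem exists_vanish {R S : Type*} [CommRing R] [CommRing S] [Algebra R S]
    {E : Set (PrimeSpectrum S)} (hE : Topology.IsConstructible E) (ξ : PrimeSpectrum R)
    (hξ : ξ ∉ comap (algebraMap R S) '' E) :
    ∃ a : R, a ∉ ξ.asIdeal ∧ ∀ z ∈ E, ξ ≤ comap (algebraMap R S) z →
      algebraMap R S a ∈ z.asIdeal := by
  classical
  obtain ⟨D, rfl⟩ := exists_constructibleSetData_iff.2 hE
  have key : ∀ C : BasicConstructibleSetData S, ∃ a : R, a ∉ ξ.asIdeal ∧ (C ∈ D →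
      ∀ z ∈ C.toSet, ξ ≤ comap (algebraMap R S) z → algebraMap R S a ∈ z.asIdeal) := by
    intro C
    by_cases hC : C ∈ D
    swap
    · exact ⟨1, (Ideal.ne_top_iff_one _).1 ξ.isPrime.ne_top, fun h => absurd h hC⟩
    let I : Ideal S := Ideal.span (Set.range C.g) ⊔ ξ.asIdeal.map (algebraMap R S)
    let M : Submonoid S := Submonoid.powers C.f ⊔ ξ.asIdeal.primeCompl.map (algebraMap R S)
    have hnd : ¬ Disjoint (I : Set S) (M : Set S) := by
      intro hd
      obtain ⟨z, hz, hIz, hzM⟩ := Ideal.exists_le_prime_disjoint I M hd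
      apply hξ
      have h1 : C.f ∉ z := fun h => Set.disjoint_left.1 hzM h
        (Submonoid.mem_sup_left (S := Submonoid.powers C.f) (Submonoid.mem_powers C.f))
      refine ⟨⟨z, hz⟩, Set.mem_iUnion₂.2 ⟨C, hC, ?_, ?_⟩, ?_⟩
      · rw [mem_zeroLocus, ← Ideal.span_le (I := z)]
        exact le_sup_left.trans hIz
      · intro h
        exact h1 (Set.singleton_subset_iff.1 h)
      · ext r
        change algebraMap R S r ∈ z ↔ _
        constructor
        · intro hr
          by_contra hcon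
          exact Set.disjoint_left.1 hzM hr (Submonoid.mem_sup_right
            (Submonoid.mem_map_of_mem _ (show r ∈ ξ.asIdeal.primeCompl from hcon)))
        · intro hr
          exact hIz (Ideal.mem_sup_right (Ideal.mem_map_of_mem _ hr))
    rw [Set.not_disjoint_iff] at hnd
    obtain ⟨s, hsI, hsM⟩ := hnd
    obtain ⟨_, ⟨n, rfl⟩, _, ⟨a, ha, rfl⟩, rfl⟩ := Submonoid.mem_sup.1 hsM
    refine ⟨a, ha, fun _ z hz hξz => ?_⟩
    have h2 : I ≤ z.asIdeal := by
      refine sup_le ?_ ?_
      · rw [Ideal.span_le]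
        exact hz.1
      · rw [Ideal.map_le_iff_le_comap]
        exact hξz
    have h3 : C.f ∉ z.asIdeal := fun h => hz.2 (Set.singleton_subset_iff.2 h)
    rcases z.isPrime.mem_or_mem (h2 hsI) with h | h
    · exact absurd (z.isPrime.mem_of_pow_mem n h) h3
    · exact h
  choose a ha1 ha2 using key
  refine ⟨∏ C ∈ D, a C, fun h => ?_, fun z hz hξz => ?_⟩
  · obtain ⟨C, -, hC⟩ := ξ.isPrime.prod_mem_iff.1 h
    exact ha1 C hC
  · obtain ⟨C, hC, hzC⟩ := Set.mem_iUnion₂.1 hz
    exact Ideal.mem_of_dvd _ (map_dvd (algebraMap R S) (Finset.dvd_prod_of_mem a hC))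
      (ha2 C hC z hzC hξz)

/-- Jacobson rings: primes not containing `f` are contained in maximal ideals not containing `f`. -/
theorem exists_isMaximal {S : Type*} [CommRing S] [IsJacobsonRing S] (q : PrimeSpectrum S) (f : S)
    (hf : f ∉ q.asIdeal) : ∃ m : PrimeSpectrum S, m.asIdeal.IsMaximal ∧ q ≤ m ∧ f ∉ m.asIdeal := by
  have h1 : q.asIdeal.jacobson = q.asIdeal := IsJacobsonRing.out' _ q.isPrime.isRadical
  rw [← h1, Ideal.jacobson, Submodule.mem_sInf] at hf
  push Not at hf
  obtain ⟨m, ⟨hm1, hm2⟩, hm3⟩ := hf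
  exact ⟨⟨m, hm2.isPrime⟩, hm2, hm1, hm3⟩

theorem closure_eq_of_isMaximal {S : Type*} [CommRing S] {m : PrimeSpectrum S}
    (hm : m.asIdeal.IsMaximal) : closure ({m} : Set (PrimeSpectrum S)) = {m} :=
  ((isClosed_singleton_iff_isMaximal m).2 hm).closure_eq

theorem mem_closure_iff' {S : Type*} [CommRing S] {x y : PrimeSpectrum S} :
    y ∈ closure ({x} : Set (PrimeSpectrum S)) ↔ x ≤ y := by
  rw [le_iff_specializes, specializes_iff_mem_closure]

/-- A point of a constructible set which is closed in it is maximal, in a Jacobson ring. -/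
theorem isMaximal_of_closed {S : Type*} [CommRing S] [IsJacobsonRing S]
    {E : Set (PrimeSpectrum S)} {y : PrimeSpectrum S} (f : S) (hf : f ∉ y.asIdeal)
    (hE : ∀ z : PrimeSpectrum S, y ≤ z → f ∉ z.asIdeal → z ∈ E)
    (hy : closure {y} ∩ E = {y}) : y.asIdeal.IsMaximal := by
  obtain ⟨m, hm, hym, hfm⟩ := exists_isMaximal y f hf
  have h1 : m ∈ closure {y} ∩ E := ⟨mem_closure_iff'.2 hym, hE m hym hfm⟩
  rw [hy] at h1
  exact (show m = y from h1) ▸ hm

theorem comap_isMaximal {R S : Type*} [CommRing R] [CommRing S] [Algebra R S] [IsJacobsonRing R]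
    [Algebra.FiniteType R S] (m : PrimeSpectrum S) (hm : m.asIdeal.IsMaximal) :
    (comap (algebraMap R S) m).asIdeal.IsMaximal := by
  let : Field (S ⧸ m.asIdeal) := Ideal.Quotient.field _
  have h1 : Algebra.FiniteType R (S ⧸ m.asIdeal) :=
    Algebra.FiniteType.of_surjective (Ideal.Quotient.mkₐ R m.asIdeal)
      (Ideal.Quotient.mkₐ_surjective R m.asIdeal)
  have h2 : Module.Finite R (S ⧸ m.asIdeal) :=
    finite_of_finite_type_of_isJacobsonRing R (S ⧸ m.asIdeal)
  have h3 : Algebra.IsIntegral R (S ⧸ m.asIdeal) := inferInstance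
  have h4 : ((⊥ : Ideal (S ⧸ m.asIdeal)).comap (algebraMap R (S ⧸ m.asIdeal))).IsMaximal :=
    Ideal.isMaximal_comap_of_isIntegral_of_isMaximal ⊥
  have h5 : (⊥ : Ideal (S ⧸ m.asIdeal)).comap (algebraMap R (S ⧸ m.asIdeal)) =
      (comap (algebraMap R S) m).asIdeal := by
    ext r
    rw [Ideal.mem_comap, Ideal.mem_bot, IsScalarTower.algebraMap_apply R S (S ⧸ m.asIdeal),
      Ideal.Quotient.algebraMap_eq, Ideal.Quotient.eq_zero_iff_mem]
    rfl
  rwa [h5] at h4

end K77.ConstrImg
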