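import Groth.Agent.VarietyA.GeomIrrB
import Groth.Agent.VarietyA.GeomRedAlg
import Groth.Agent.Sga3A.GeomConn
import Mathlib.FieldTheory.SeparableClosure
import Mathlib.FieldTheory.IntermediateField.Adjoin.Algebra

/-!
# Geometric properties of algebras over a field, tested on `k' ⊗[k] S`

Descent to finite subextensions and ascent to arbitrary extensions for the properties
"domain" and "irreducible spectrum".
-/

set_option autoImplicit false
universe u v w

open TensorProduct

namespace K77.GeomTensor

/-- base change of an injective map on the left factor -/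
theorem map_injective {k : Type*} [Field k] {A B S : Type*} [CommRing A] [CommRing B] [CommRing S]
    [Algebra k A] [Algebra k B] [Algebra k S] (φ : A →ₐ[k] B) (hφ : Function.Injective φ) :
    Function.Injective (Algebra.TensorProduct.map φ (AlgHom.id k S)) :=
  Module.Flat.rTensor_preserves_injective_linearMap (M := S) φ.toLinearMap hφ

theorem map_injective_right {k : Type*} [Field k] {A B S : Type*} [CommRing A] [CommRing B]
    [CommRing S] [Algebra k A] [Algebra k B] [Algebra k S] (φ : A →ₐ[k] B)
    (hφ : Function.Injective φ) :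
    Function.Injective (Algebra.TensorProduct.map (AlgHom.id k S) φ) :=
  Module.Flat.lTensor_preserves_injective_linearMap (M := S) φ.toLinearMap hφ

theorem range_mono {k : Type*} {L : Type*} [Field k] [Field L] [Algebra k L] {S : Type*}
    [CommRing S] [Algebra k S] {E F : IntermediateField k L} (h : E ≤ F) {x : L ⊗[k] S}
    (hx : x ∈ (Algebra.TensorProduct.map E.val (AlgHom.id k S)).range) :
    x ∈ (Algebra.TensorProduct.map F.val (AlgHom.id k S)).range := by
  obtain ⟨x', rfl⟩ := hx
  refine ⟨Algebra.TensorProduct.map (IntermediateField.inclusion h) (AlgHom.id k S) x', ?_⟩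
  induction x' using TensorProduct.induction_on with
  | zero => simp
  | tmul a b => simp
  | add a b ha hb => rw [map_add, map_add, map_add, ha, hb]

/-- every element of `L ⊗[k] S` comes from a finite subextension if `L/k` is algebraic -/
theorem exists_finite_subextension {k : Type*} {L : Type*} [Field k] [Field L] [Algebra k L]
    [Algebra.IsAlgebraic k L] {S : Type*} [CommRing S] [Algebra k S] (x : L ⊗[k] S) :
    ∃ (E : IntermediateField k L), FiniteDimensional k E ∧
      x ∈ (Algebra.TensorProduct.map E.val (AlgHom.id k S)).range := by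
  induction x using TensorProduct.induction_on with
  | zero => exact ⟨⊥, inferInstance, zero_mem _⟩
  | tmul a b =>
    refine ⟨IntermediateField.adjoin k {a}, IntermediateField.adjoin.finiteDimensional
      (Algebra.IsIntegral.isIntegral a), ?_⟩
    exact ⟨⟨a, IntermediateField.mem_adjoin_simple_self k a⟩ ⊗ₜ b, by simp⟩
  | add x y hx hy =>
    obtain ⟨E, hE, hx⟩ := hx
    obtain ⟨F, hF, hy⟩ := hy
    exact ⟨E ⊔ F, inferInstance, add_mem (range_mono le_sup_left hx) (range_mono le_sup_right hy)⟩

theorem exists_finite_subextension₂ {k : Type*} {L : Type*} [Field k] [Field L] [Algebra k L]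
    [Algebra.IsAlgebraic k L] {S : Type*} [CommRing S] [Algebra k S] (x y : L ⊗[k] S) :
    ∃ (E : IntermediateField k L), FiniteDimensional k E ∧
      x ∈ (Algebra.TensorProduct.map E.val (AlgHom.id k S)).range ∧
      y ∈ (Algebra.TensorProduct.map E.val (AlgHom.id k S)).range := by
  obtain ⟨E, hE, hx⟩ := exists_finite_subextension x
  obtain ⟨F, hF, hy⟩ := exists_finite_subextension y
  exact ⟨E ⊔ F, inferInstance, range_mono le_sup_left hx, range_mono le_sup_right hy⟩

theorem nontrivial_of_map {k : Type*} [Field k] {L S : Type*} [Field L] [Algebra k L] [CommRing S]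
    [Algebra k S] [Nontrivial S] : Nontrivial (L ⊗[k] S) :=
  (Algebra.TensorProduct.includeLeft_injective (R := k) (S := k) (A := L) (B := S)
    (algebraMap k S).injective).nontrivial

theorem nontrivial_right {k : Type*} [Field k] {L S : Type*} [Field L] [Algebra k L] [CommRing S]
    [Algebra k S] (h : Nontrivial (L ⊗[k] S)) : Nontrivial S := by
  by_contra hS
  rw [not_nontrivial_iff_subsingleton] at hS
  have : Subsingleton (L ⊗[k] S) := inferInstance
  exact not_nontrivial_iff_subsingleton.2 this h

/-- If `k' ⊗[k] S` is a domain for every finite extension, so is `L ⊗[k] S` for every algebraic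
extension. -/
theorem isDomain_of_forall_finite {k L S : Type*} [Field k] [Field L] [Algebra k L]
    [Algebra.IsAlgebraic k L] [CommRing S] [Algebra k S]
    (h : ∀ (E : IntermediateField k L) [FiniteDimensional k E], IsDomain (E ⊗[k] S)) :
    IsDomain (L ⊗[k] S) := by
  have hS : Nontrivial S := by
    have : IsDomain ((⊥ : IntermediateField k L) ⊗[k] S) := h ⊥
    exact nontrivial_right (k := k) (L := (⊥ : IntermediateField k L)) inferInstance
  have : Nontrivial (L ⊗[k] S) := nontrivial_of_map
  have : NoZeroDivisors (L ⊗[k] S) := by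
    refine ⟨fun {x y} hxy => ?_⟩
    obtain ⟨E, hE, ⟨x', rfl⟩, ⟨y', rfl⟩⟩ := exists_finite_subextension₂ x y
    have hD := h E
    simp only [AlgHom.toRingHom_eq_coe, RingHom.coe_coe] at hxy ⊢
    rw [← map_mul] at hxy
    have h0 : x' * y' = 0 :=
      map_injective E.val (RingHom.injective _) (by rw [map_zero]; exact hxy)
    rcases mul_eq_zero.1 h0 with h | h
    · left; rw [h, map_zero]
    · right; rw [h, map_zero]
  exact NoZeroDivisors.to_isDomain _

/-- If `k' ⊗[k] S` has prime nilradical for every finite subextension of an algebraic extension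
`L`, so does `L ⊗[k] S`. -/
theorem isPrime_nilradical_of_forall_finite {k L S : Type*} [Field k] [Field L] [Algebra k L]
    [Algebra.IsAlgebraic k L] [CommRing S] [Algebra k S]
    (h : ∀ (E : IntermediateField k L) [FiniteDimensional k E],
      (nilradical (E ⊗[k] S)).IsPrime) :
    (nilradical (L ⊗[k] S)).IsPrime := by
  have hS : Nontrivial S := by
    have h1 := h ⊥
    have : Nontrivial ((⊥ : IntermediateField k L) ⊗[k] S) := by
      by_contra hcon
      rw [not_nontrivial_iff_subsingleton] at hcon
      exact h1.ne_top (Subsingleton.elim _ _)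
    exact nontrivial_right (k := k) (L := (⊥ : IntermediateField k L)) inferInstance
  have : Nontrivial (L ⊗[k] S) := nontrivial_of_map
  refine ⟨?_, fun {x y} hxy => ?_⟩
  · rw [Ne, Ideal.eq_top_iff_one, mem_nilradical]
    exact not_isNilpotent_one
  · obtain ⟨E, hE, ⟨x', rfl⟩, ⟨y', rfl⟩⟩ := exists_finite_subextension₂ x y
    have hD := h E
    simp only [AlgHom.toRingHom_eq_coe, RingHom.coe_coe, mem_nilradical] at hxy ⊢
    rw [← map_mul] at hxy
    have h0 : x' * y' ∈ nilradical (E ⊗[k] S) := by
      rw [mem_nilradical]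
      exact (IsNilpotent.map_iff (map_injective E.val (RingHom.injective _))).1 hxy
    rcases hD.mem_or_mem h0 with h | h
    · left; exact (mem_nilradical.1 h).map _
    · right; exact (mem_nilradical.1 h).map _

/-- prime nilradicals over a separably closed field tensor well with domains -/
theorem isPrime_nilradical_tensor {k : Type*} [Field k] [IsSepClosed k]
    (A : Type*) (B : Type*) [CommRing A] [IsDomain A] [Algebra k A]
    [CommRing B] [Algebra k B] (hB : (nilradical B).IsPrime) : (nilradical (A ⊗[k] B)).IsPrime := by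
  have hD : IsDomain (B ⧸ nilradical B) := Ideal.Quotient.isDomain _
  have h1 : (nilradical (A ⊗[k] (B ⧸ nilradical B))).IsPrime :=
    Groth.Agent.VarietyA.GeomIrr.isPrime_nilradical_tensorProduct A _
  let φ : A ⊗[k] B →ₐ[k] A ⊗[k] (B ⧸ nilradical B) :=
    Algebra.TensorProduct.map (AlgHom.id k A) (Ideal.Quotient.mkₐ k (nilradical B))
  have hker : ∀ x, φ x = 0 → IsNilpotent x := by
    intro x hx
    have h2 : RingHom.ker φ = (RingHom.ker (Ideal.Quotient.mkₐ k (nilradical B))).map
        (Algebra.TensorProduct.includeRight : B →ₐ[k] A ⊗[k] B) :=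
      Algebra.TensorProduct.lTensor_ker _ (Ideal.Quotient.mkₐ_surjective k (nilradical B))
    have h3 : x ∈ RingHom.ker φ := hx
    have hk : RingHom.ker (Ideal.Quotient.mkₐ k (nilradical B)) = nilradical B :=
      Ideal.Quotient.mkₐ_ker k (nilradical B)
    rw [h2, hk] at h3
    have h4 : (nilradical B).map (Algebra.TensorProduct.includeRight : B →ₐ[k] A ⊗[k] B) ≤
        nilradical (A ⊗[k] B) := by
      rw [Ideal.map_le_iff_le_comap]
      intro b hb
      exact (mem_nilradical.1 hb).map _
    exact mem_nilradical.1 (h4 h3)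
  have : nilradical (A ⊗[k] B) = (nilradical (A ⊗[k] (B ⧸ nilradical B))).comap φ := by
    ext x
    rw [Ideal.mem_comap, mem_nilradical, mem_nilradical]
    refine ⟨fun h => h.map φ, fun ⟨n, hn⟩ => ?_⟩
    rw [← map_pow] at hn
    obtain ⟨m, hm⟩ := hker _ hn
    exact ⟨n * m, by rw [pow_mul]; exact hm⟩
  rw [this]
  infer_instance

/-- ascent: prime nilradical of `ks ⊗[k] S` with `ks` separably closed gives it for `Ω ⊗[k] S` for
every domain `Ω` over `ks`. -/
theorem isPrime_nilradical_ascend (k ks S Ω : Type*) [Field k]
    [Field ks] [IsSepClosed ks] [Algebra k ks] [CommRing S] [Algebra k S] [CommRing Ω] [IsDomain Ω]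
    [Algebra k Ω] [Algebra ks Ω] [IsScalarTower k ks Ω] (h : (nilradical (ks ⊗[k] S)).IsPrime) :
    (nilradical (Ω ⊗[k] S)).IsPrime := by
  have h1 : (nilradical (Ω ⊗[ks] (ks ⊗[k] S))).IsPrime := isPrime_nilradical_tensor Ω _ h
  exact Groth.Agent.VarietyA.GeomIrr.isPrime_nilradical_of_injective
      (Algebra.TensorProduct.cancelBaseChange k ks ks Ω S).symm.toAlgHom.toRingHom
      (Algebra.TensorProduct.cancelBaseChange k ks ks Ω S).symm.injective h1

/-- ascent for domains: `kb ⊗[k] S` a domain with `kb` algebraically closed gives `Ω ⊗[k] S` a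
domain for every domain `Ω` over `kb`. -/
theorem isDomain_ascend (k kb S Ω : Type*) [Field k]
    [Field kb] [IsAlgClosed kb] [Algebra k kb] [CommRing S] [Algebra k S] [CommRing Ω] [IsDomain Ω]
    [Algebra k Ω] [Algebra kb Ω] [IsScalarTower k kb Ω] (h : IsDomain (kb ⊗[k] S)) :
    IsDomain (Ω ⊗[k] S) := by
  have h1 : IsDomain (Ω ⊗[kb] (kb ⊗[k] S)) :=
    Groth.Agent.VarietyA.GeomIrr.isDomain_tensorProduct Ω _
  exact (Algebra.TensorProduct.cancelBaseChange k kb kb Ω S).symm.toMulEquiv.isDomain _

end K77.GeomTensor
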