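import Groth.Agent.CAlg.K77.ConstrImg

/-!
# Closed points of images of constructible sets (Jacobson rings)
-/

set_option autoImplicit false
universe u

namespace K77.JacImg

open PrimeSpectrum K77.ConstrImg

variable {R S : Type u} [CommRing R] [CommRing S] [Algebra R S] [IsJacobsonRing R]
  [IsJacobsonRing S] [Algebra.FiniteType R S] {E : Set (PrimeSpectrum S)}

omit [IsJacobsonRing R] [IsJacobsonRing S] in
/-- near a point of the image of `E`, the image contains a neighbourhood in the closure -/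
theorem exists_open (hE : Topology.IsConstructible E) (ξ : PrimeSpectrum R)
    (hξ : ξ ∈ comap (algebraMap R S) '' E) :
    ∃ a : R, a ∉ ξ.asIdeal ∧ ∀ x : PrimeSpectrum R, ξ ≤ x → a ∉ x.asIdeal →
      x ∈ comap (algebraMap R S) '' E := by
  obtain ⟨y, hy, rfl⟩ := hξ
  obtain ⟨J, f, hJ, hf, hE'⟩ := exists_piece hE y hy
  obtain ⟨a, ha, H⟩ := exists_open_of_comap (R := R) y f hf
  refine ⟨a, ha, fun x hx hxa => ?_⟩
  obtain ⟨z, hyz, hfz, rfl⟩ := H x hx hxa
  exact ⟨z, hE' z (hJ.trans hyz) hfz, rfl⟩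

omit [IsJacobsonRing S] in
/-- A point of `f(E)` closed in `f(E)` is maximal. -/
theorem isMaximal_of_closed_image (hE : Topology.IsConstructible E) (x : PrimeSpectrum R)
    (hx : x ∈ comap (algebraMap R S) '' E)
    (hcl : closure {x} ∩ comap (algebraMap R S) '' E = {x}) : x.asIdeal.IsMaximal := by
  obtain ⟨a, ha, H⟩ := exists_open hE x hx
  exact isMaximal_of_closed a ha (fun z hz haz => H z hz haz) hcl

omit [IsJacobsonRing R] [Algebra.FiniteType R S] [CommRing R] [Algebra R S] in
/-- A point of `E` closed in `E` is maximal. -/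
theorem isMaximal_of_closed_mem (hE : Topology.IsConstructible E) (y : PrimeSpectrum S)
    (hy : y ∈ E) (hcl : closure {y} ∩ E = {y}) : y.asIdeal.IsMaximal := by
  obtain ⟨J, f, hJ, hf, hE'⟩ := exists_piece hE y hy
  exact isMaximal_of_closed f hf (fun z hz hfz => hE' z (hJ.trans hz) hfz) hcl

omit [IsJacobsonRing R] [Algebra.FiniteType R S] in
/-- A maximal point of the image of `E` is the image of a maximal point of `E`. -/
theorem exists_isMaximal_mem (hE : Topology.IsConstructible E) (x : PrimeSpectrum R)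
    (hx : x.asIdeal.IsMaximal) (hxE : x ∈ comap (algebraMap R S) '' E) :
    ∃ y ∈ E, y.asIdeal.IsMaximal ∧ comap (algebraMap R S) y = x := by
  obtain ⟨y, hy, rfl⟩ := hxE
  obtain ⟨J, f, hJ, hf, hE'⟩ := exists_piece hE y hy
  obtain ⟨m, hm, hym, hfm⟩ := exists_isMaximal y f hf
  refine ⟨m, hE' m (hJ.trans hym) hfm, hm, ?_⟩
  have h1 : comap (algebraMap R S) y ≤ comap (algebraMap R S) m := fun r hr => hym hr
  exact PrimeSpectrum.ext (hx.eq_of_le (comap (algebraMap R S) m).isPrime.ne_top h1).symm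

omit [CommRing R] [Algebra R S] [IsJacobsonRing R] [Algebra.FiniteType R S] in
theorem mem_closedPts_iff (hE : Topology.IsConstructible E) (y : PrimeSpectrum S) :
    (y ∈ E ∧ closure {y} ∩ E = {y}) ↔ (y ∈ E ∧ y.asIdeal.IsMaximal) := by
  refine and_congr_right fun hy => ⟨fun h => isMaximal_of_closed_mem hE y hy h, fun h => ?_⟩
  rw [closure_eq_of_isMaximal h, Set.inter_eq_left, Set.singleton_subset_iff]
  exact hy

/-- `f(E₀)` consists of the maximal points of `f(E)`. -/
theorem mem_image_closedPts_iff (hE : Topology.IsConstructible E) (x : PrimeSpectrum R) :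
    x ∈ comap (algebraMap R S) '' {y | y ∈ E ∧ closure {y} ∩ E = {y}} ↔
      (x.asIdeal.IsMaximal ∧ x ∈ comap (algebraMap R S) '' E) := by
  constructor
  · rintro ⟨y, hy, rfl⟩
    obtain ⟨h1, h2⟩ := (mem_closedPts_iff hE y).1 hy
    exact ⟨comap_isMaximal y h2, y, h1, rfl⟩
  · rintro ⟨h1, h2⟩
    obtain ⟨y, hy, hm, rfl⟩ := exists_isMaximal_mem hE x h1 h2
    exact ⟨y, (mem_closedPts_iff hE y).2 ⟨hy, hm⟩, rfl⟩

omit [IsJacobsonRing S] in
theorem mem_closedPts_image_iff (hE : Topology.IsConstructible E) (x : PrimeSpectrum R) :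
    (x ∈ comap (algebraMap R S) '' E ∧ closure {x} ∩ comap (algebraMap R S) '' E = {x}) ↔
      (x.asIdeal.IsMaximal ∧ x ∈ comap (algebraMap R S) '' E) := by
  constructor
  · rintro ⟨h1, h2⟩
    exact ⟨isMaximal_of_closed_image hE x h1 h2, h1⟩
  · rintro ⟨h1, h2⟩
    refine ⟨h2, ?_⟩
    rw [closure_eq_of_isMaximal h1, Set.inter_eq_left, Set.singleton_subset_iff]
    exact h2

end K77.JacImg
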