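import Groth.Agent.VarietyA.SepGen
import Groth.Agent.Ega41.RedTensor
import Mathlib.FieldTheory.PrimitiveElement
import Mathlib.RingTheory.Unramified.Field
import Mathlib.RingTheory.Unramified.Finite

/-!
# Finitely generated subextensions of separably generated extensions
-/

set_option autoImplicit false

open TensorProduct

namespace K77.SepGenFG

theorem isSeparable_adjoin_congr {k K : Type*} [Field k] [Field K] [Algebra k K] {S T : Set K}
    (h : S = T) (hS : Algebra.IsSeparable (IntermediateField.adjoin k S) K) :
    Algebra.IsSeparable (IntermediateField.adjoin k T) K := by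
  subst h
  exact hS

/-- A separably generated extension is geometrically reduced. -/
theorem isReduced_of_separating {k K ι : Type*} [Field k] [Field K] [Algebra k K]
    {x : ι → K} (hx : AlgebraicIndependent k x)
    [Algebra.IsSeparable (IntermediateField.adjoin k (Set.range x)) K] :
    IsReduced (AlgebraicClosure k ⊗[k] K) := by
  have h1 : IsReduced (K ⊗[k] (AlgebraicClosure k)) :=
    Groth.Agent.Ega41.RedTensor.isReduced_tensor_of_separating hx (AlgebraicClosure k)
  exact isReduced_of_injective (Algebra.TensorProduct.comm k (AlgebraicClosure k) K)
      (AlgEquiv.injective _)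

/-- A finitely generated geometrically reduced extension has a finite separating transcendence
basis. -/
theorem exists_separating {k K : Type*} [Field k] [Field K] [Algebra k K]
    [Algebra.EssFiniteType k K] (h : IsReduced (AlgebraicClosure k ⊗[k] K)) :
    ∃ s : Finset K, IsTranscendenceBasis k ((↑) : s → K) ∧
      Algebra.IsSeparable (IntermediateField.adjoin k (Set.range ((↑) : s → K))) K := by
  obtain ⟨s, hs, hs'⟩ :=
    Groth.Agent.VarietyA.SepGen.exists_isTranscendenceBasis_isSeparable k K h
  exact ⟨s, hs, isSeparable_adjoin_congr Subtype.range_coe.symm hs'⟩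

/-- Primitive element for a separable extension over `k(x)` when `K/k` is finitely generated. -/
theorem exists_primitive {k K : Type*} [Field k] [Field K] [Algebra k K]
    [Algebra.EssFiniteType k K] (S : Set K)
    [Algebra.IsSeparable (IntermediateField.adjoin k S) K] :
    ∃ y : K, IntermediateField.adjoin k (insert y S) = ⊤ ∧
      IsSeparable (IntermediateField.adjoin k S) y := by
  have h1 : Algebra.EssFiniteType (IntermediateField.adjoin k S) K :=
    Algebra.EssFiniteType.of_comp k (IntermediateField.adjoin k S) K
  have h2 : Algebra.FormallyUnramified (IntermediateField.adjoin k S) K :=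
    Algebra.FormallyUnramified.of_isSeparable _ _
  have h3 : Module.Finite (IntermediateField.adjoin k S) K :=
    Algebra.FormallyUnramified.finite_of_free _ _
  obtain ⟨y, hy⟩ := Field.exists_primitive_element (IntermediateField.adjoin k S) K
  refine ⟨y, ?_, Algebra.IsSeparable.isSeparable _ y⟩
  have h4 := IntermediateField.adjoin_adjoin_left k S {y}
  rw [hy] at h4
  rw [Set.insert_eq, Set.union_comm, ← h4]
  rfl

end K77.SepGenFG
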